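import Cfsg.Agent.H264.TC.TwoChk
import Cfsg.Agent.H123.Cls.LRun

/-!
# The second relation on the 98280 lanes (helper264)

`two p` : the mask of the lanes `x` with `|⟨lv p, lv x⟩| = 16` (scale: minimal norm 32).
-/

set_option autoImplicit false

namespace Cfsg.Agent.H264.TC.TwoPl

open Cfsg Cfsg.Agent.Lib.BitNet
open Cfsg.Agent.LeechMat.Code Cfsg.Agent.LeechMat.Elements Cfsg.Agent.MonsterX.Psi Cfsg.Agent.Monster.PauliBasic
open Cfsg.Agent.MonsterX.LaneLab Cfsg.Agent.MonsterX.LaneVec Cfsg.Agent.H264.TC.TwoChk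
open Cfsg.Agent.H264.TC.NoReal39 (CL)
open Cfsg.Agent.H123.Cls
open Cfsg.Agent.Leech.Basic

/-- the Gram matrix modulo 4 is `J + 2 S` -/
def SL : List ℕ := [10895058, 3989, 8796794, 12976644, 8466407, 8458260, 8654741, 81747, 8910034, 12186847, 72659, 1176791,
  77733, 334741, 3181312, 5786368, 16304, 262413, 139597, 4227584, 51712, 16897, 557064, 893]

/-- the second relation -/
noncomputable def two (p : ℕ) : ℕ := twoF CL EL SL XL p

/-! ### bits -/

theorem testBit_swN {v : ℕ} (hv : v < 2 ^ 24) {k : ℕ} (hk : k < 24) : (swN v).testBit k = v.testBit ((k + 12) % 24) := by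
  have e : swN v = (v >>> 12) ||| ((v &&& 4095) <<< 12) := rfl
  have h4095 : ∀ j, (4095 : ℕ).testBit j = decide (j < 12) := by
    intro j
    have : (4095 : ℕ) = 2 ^ 12 - 1 := by norm_num
    rw [this, Nat.testBit_two_pow_sub_one]
  rw [e, Nat.testBit_or, Nat.testBit_shiftRight, Nat.testBit_shiftLeft, Nat.testBit_and, h4095]
  by_cases h : k < 12
  · have h1 : (k + 12) % 24 = 12 + k := by omega
    have h2 : ¬ (k ≥ 12) := by omega
    rw [h1]
    simp [h2]
  · have h1 : (k + 12) % 24 = k - 12 := by omega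
    have h2 : k ≥ 12 := by omega
    have h3 : v.testBit (12 + k) = false :=
      Nat.testBit_lt_two_pow (lt_of_lt_of_le hv (Nat.pow_le_pow_right (by norm_num) (by omega)))
    have h4 : k - 12 < 12 := by omega
    rw [h1, h3]
    simp [h2, h4]

theorem xc_par : ∀ (l : List ℕ) (c j : ℕ), ((xc l c).testBit j).toNat % 2 =
    (∑ k ∈ Finset.range l.length, (c.testBit k).toNat * ((l.getD k 0).testBit j).toNat) % 2
  | [], c, j => by simp [xc]
  | x :: l, c, j => by
    rw [xc, List.length_cons, Finset.sum_range_succ', Nat.testBit_xor]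
    have h1 := xc_par l (c >>> 1) j
    have h2 : ∀ k, ((c >>> 1).testBit k) = c.testBit (k + 1) := fun k => by rw [Nat.testBit_shiftRight, add_comm]
    simp only [h2] at h1
    simp only [List.getD_cons_succ, List.getD_cons_zero]
    cases h3 : c.testBit 0
    · simp only [cond_false, Nat.zero_testBit, Bool.false_xor, Bool.toNat_false, Nat.zero_mul, Nat.add_zero]
      exact h1
    · simp only [cond_true, Bool.toNat_true, Nat.one_mul]
      have h4 : ∀ a b : Bool, (a ^^ b).toNat % 2 = (b.toNat + a.toNat) % 2 := by decide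
      rw [h4]
      omega

theorem gramS : ∀ j k : Fin 24, dotc (ws.getD j 0) (ws.getD k 0) % 32 =
    8 * ((if (j.1 + 12) % 24 = k.1 then 1 else 0) + 2 * ((SL.getD j 0).testBit k).toNat) := by decide +kernel

/-! ### combinations of the 24 vectors -/

theorem dot_sum (A : Fin 24 → ℕ) (u : GolayPt → ℤ) :
    dotInt ((∑ k, A k • wv k : leechLattice) : GolayPt → ℤ) u = ∑ k, (A k : ℤ) * dotInt (wv k : leechLattice) u := by
  let f : leechLattice →+ ℤ :=
    { toFun := fun v => dotInt (v : GolayPt → ℤ) u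
      map_zero' := by simp [dotInt]
      map_add' := fun a b => by rw [AddSubgroup.coe_add, dotInt_add_left] }
  have h : f (∑ k, A k • wv k) = ∑ k, (A k : ℤ) * f (wv k) := by
    rw [map_sum]
    exact Finset.sum_congr rfl fun k _ => by rw [map_nsmul, nsmul_eq_mul]
  exact h

theorem ws_X : ∀ k : Fin 12, ws.getD k 0 = xs.getD k 0 := by decide

theorem ws_Z : ∀ k : Fin 12, ws.getD (12 + k) 0 = zs.getD k 0 := by decide

theorem div_all {d : GolayPt → ℤ} (hd : d ∈ leechLattice) (h : ∀ k, (32 : ℤ) ∣ dotInt d (wv k : leechLattice))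
    (u : leechLattice) : (32 : ℤ) ∣ dotInt d (u : GolayPt → ℤ) := by
  have hX : ∀ k, (32 : ℤ) ∣ dotInt d (vX k : leechLattice) := by
    intro k
    have h1 := h ⟨k, by omega⟩
    have h2 : ((wv ⟨k, by omega⟩ : leechLattice) : GolayPt → ℤ) = (vX k : leechLattice) := by
      show vec (ws.getD k 0) = vec (xs.getD k 0)
      rw [ws_X]
    rwa [h2] at h1
  have hZ : ∀ k, (32 : ℤ) ∣ dotInt d (vZ k : leechLattice) := by
    intro k
    have h1 := h ⟨12 + k, by omega⟩
    have h2 : ((wv ⟨12 + k, by omega⟩ : leechLattice) : GolayPt → ℤ) = (vZ k : leechLattice) := by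
      show vec (ws.getD (12 + k) 0) = vec (zs.getD k 0)
      rw [ws_Z]
    rwa [h2] at h1
  have hlift : ∀ p : B 12 × B 12, (32 : ℤ) ∣ dotInt d (lift p : leechLattice) := by
    intro p
    have key : ∀ (s : Finset (Fin 12)) (c : Fin 12 → ℕ) (v : Fin 12 → leechLattice),
        (∀ k, (32 : ℤ) ∣ dotInt d (v k : leechLattice)) →
        (32 : ℤ) ∣ dotInt d ((∑ k ∈ s, c k • v k : leechLattice) : GolayPt → ℤ) := by
      intro s c v hv
      let f : leechLattice →+ ℤ :=
        { toFun := fun v => dotInt d (v : GolayPt → ℤ)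
          map_zero' := by simp [dotInt]
          map_add' := fun a b => by rw [AddSubgroup.coe_add, dotInt_add_right] }
      show (32 : ℤ) ∣ f (∑ k ∈ s, c k • v k)
      rw [map_sum]
      refine Finset.dvd_sum fun k _ => ?_
      rw [map_nsmul, nsmul_eq_mul]
      exact Dvd.dvd.mul_left (hv k) _
    unfold lift
    rw [AddSubgroup.coe_add, dotInt_add_right]
    exact dvd_add (key _ _ _ hX) (key _ _ _ hZ)
  have hdec : ∀ y : leechLattice, ∃ u : leechLattice,
      (32 : ℤ) ∣ dotInt d (y : GolayPt → ℤ) - 2 * dotInt d (u : GolayPt → ℤ) := by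
    intro y
    obtain ⟨u, hu⟩ := psi_eq_iff.1 (psi_lift (psi y)).symm
    refine ⟨u, ?_⟩
    have h1 : y = lift (psi y) + (u + u) := by
      rw [← two_smul ℕ u, ← hu]; abel
    have h2 : dotInt d (y : GolayPt → ℤ) = dotInt d (lift (psi y) : leechLattice) + 2 * dotInt d (u : GolayPt → ℤ) := by
      conv_lhs => rw [h1]
      rw [AddSubgroup.coe_add, AddSubgroup.coe_add, dotInt_add_right, dotInt_add_right]; ring
    rw [h2, add_sub_cancel_right]
    exact hlift _
  obtain ⟨u1, h1⟩ := hdec u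
  obtain ⟨u2, h2⟩ := hdec u1
  obtain ⟨m, hm⟩ := eight_dvd_dotInt hd u2.2
  omega

/-! ### the coefficients -/

/-- the coefficients of the point `p` -/
noncomputable def al (p : ℕ) : ℕ := swN (value CL p)

/-- the coefficients of the point `p`, bit 1 -/
noncomputable def ah (p : ℕ) : ℕ := swN (value EL p ^^^ xc SL (swN (value CL p)))

theorem lenC : CL.length = 24 := rfl

theorem lenE : EL.length = 24 := rfl

theorem SL_lt : ∀ c, xc SL c < 2 ^ 24 := fun c => Mdl.xc_lt SL (by decide) c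

/-- the coefficient `k` -/
noncomputable def co (p : ℕ) (k : ℕ) : ℕ := qd ((al p).testBit k) ((ah p).testBit k)

theorem co_swap (p : ℕ) {j j' : ℕ} (hj' : j' < 24) (h : (j' + 12) % 24 = j) : co p j' =
    qd ((CL.getD j 0).testBit p) ((EL.getD j 0).testBit p ^^ (xc SL (al p)).testBit j) := by
  have h1 : value CL p < 2 ^ 24 := by
    have := value_lt CL p
    rwa [lenC] at this
  have h2 : value EL p ^^^ xc SL (swN (value CL p)) < 2 ^ 24 := by
    refine Nat.xor_lt_two_pow ?_ (SL_lt _)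
    have := value_lt EL p
    rwa [lenE] at this
  unfold co al ah
  rw [testBit_swN h1 hj', testBit_swN h2 hj', h, Nat.testBit_xor, testBit_value, testBit_value]

theorem qd_aux (a b s : Bool) (N : ℕ) (h : N % 2 = s.toNat % 2) : (qd a (b ^^ s) + 2 * N) % 4 = qd a b := by
  have h1 := Nat.div_add_mod N 2
  rw [h] at h1
  cases a <;> cases b <;> cases s <;> simp [qd] at h1 ⊢ <;> omega

theorem sum_aux (f : ℕ → ℕ) (s : Fin 24 → ℕ) (j : Fin 24) :
    ∑ k : Fin 24, f k * ((if (k.1 + 12) % 24 = j.1 then 1 else 0) + 2 * s k) =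
      f ((j.1 + 12) % 24) + 2 * ∑ k : Fin 24, f k * s k := by
  have h0 : ∀ k : Fin 24, f k * ((if (k.1 + 12) % 24 = j.1 then 1 else 0) + 2 * s k) =
      (if k = ⟨(j.1 + 12) % 24, Nat.mod_lt _ (by norm_num)⟩ then f k else 0) + 2 * (f k * s k) := by
    intro k
    have h2 : ((k.1 + 12) % 24 = j.1) ↔ k = ⟨(j.1 + 12) % 24, Nat.mod_lt _ (by norm_num)⟩ := by
      rw [Fin.ext_iff]
      have := j.2
      have := k.2
      show _ ↔ k.1 = (j.1 + 12) % 24
      omega
    by_cases h : (k.1 + 12) % 24 = j.1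
    · rw [if_pos h, if_pos (h2.1 h)]; ring
    · rw [if_neg h, if_neg (fun h3 => h (h2.2 h3))]; ring
  rw [Finset.sum_congr rfl fun k _ => h0 k, Finset.sum_add_distrib, Finset.sum_ite_eq' Finset.univ,
    if_pos (Finset.mem_univ _), Finset.mul_sum]

theorem par_aux (a b : ℕ) (s : Fin 24 → ℕ) :
    (∑ k : Fin 24, qd (a.testBit k) (b.testBit k) * s k) % 2 = (∑ k : Fin 24, (a.testBit k).toNat * s k) % 2 := by
  have h : ∑ k : Fin 24, qd (a.testBit k) (b.testBit k) * s k =
      ∑ k : Fin 24, (a.testBit k).toNat * s k + 2 * ∑ k : Fin 24, (b.testBit k).toNat * s k := by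
    rw [Finset.mul_sum, ← Finset.sum_add_distrib]
    refine Finset.sum_congr rfl fun k _ => ?_
    unfold qd
    ring
  rw [h, Nat.add_mul_mod_self_left]

theorem lenS : SL.length = 24 := rfl

theorem sum_co (p : ℕ) (j : Fin 24) : (∑ k : Fin 24, co p k * ((if (k.1 + 12) % 24 = j.1 then 1 else 0) +
    2 * ((SL.getD k 0).testBit j).toNat)) % 4 = qd ((CL.getD j 0).testBit p) ((EL.getD j 0).testBit p) := by
  rw [sum_aux (co p) (fun k => ((SL.getD k 0).testBit j).toNat) j,
    co_swap (j := j.1) p (Nat.mod_lt _ (by norm_num)) (by have := j.2; omega)]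
  refine qd_aux _ _ _ _ ?_
  rw [xc_par, Finset.sum_range, lenS]
  exact par_aux (al p) (ah p) fun k => ((SL.getD k 0).testBit j).toNat

theorem dot_lv {p : ℕ} (hp : XL.testBit p = true) (u : leechLattice) :
    (32 : ℤ) ∣ dotInt (lv p : leechLattice) (u : GolayPt → ℤ) -
      ∑ k : Fin 24, (co p k : ℤ) * dotInt (wv k : leechLattice) (u : GolayPt → ℤ) := by
  set d : leechLattice := lv p - ∑ k : Fin 24, co p k • wv k with hd
  have hdu : ∀ u : leechLattice, dotInt (d : GolayPt → ℤ) (u : GolayPt → ℤ) = dotInt (lv p : leechLattice) (u : GolayPt → ℤ) -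
      ∑ k : Fin 24, (co p k : ℤ) * dotInt (wv k : leechLattice) (u : GolayPt → ℤ) := by
    intro u
    rw [hd, AddSubgroup.coe_sub, dotInt_sub_left, dot_sum]
  rw [← hdu]
  refine div_all d.2 (fun j => ?_) u
  rw [hdu, lv_coe hp]
  obtain ⟨m, hm, hm4⟩ := dotW hp j
  rw [hm]
  have hg : ∀ k : Fin 24, (32 : ℤ) ∣ dotInt ((wv k : leechLattice) : GolayPt → ℤ) ((wv j : leechLattice) : GolayPt → ℤ) -
      8 * (((if (k.1 + 12) % 24 = j.1 then 1 else 0) + 2 * ((SL.getD k 0).testBit j).toNat : ℕ) : ℤ) := by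
    intro k
    have h1 : dotInt ((wv k : leechLattice) : GolayPt → ℤ) ((wv j : leechLattice) : GolayPt → ℤ) =
        dotc (ws.getD k 0) (ws.getD j 0) := by
      rw [dotc_eq]; rfl
    have h2 := gramS k j
    rw [h1]
    push_cast
    omega
  generalize hD : (fun k : Fin 24 => dotInt ((wv k : leechLattice) : GolayPt → ℤ) ((wv j : leechLattice) : GolayPt → ℤ)) = D
  have hD' : ∀ k, dotInt ((wv k : leechLattice) : GolayPt → ℤ) ((wv j : leechLattice) : GolayPt → ℤ) = D k :=
    fun k => by rw [← hD]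
  simp only [hD'] at hg ⊢
  have hs : (32 : ℤ) ∣ ∑ k : Fin 24, (co p k : ℤ) * (D k -
      8 * (((if (k.1 + 12) % 24 = j.1 then 1 else 0) + 2 * ((SL.getD k 0).testBit j).toNat : ℕ) : ℤ)) :=
    Finset.dvd_sum fun k _ => Dvd.dvd.mul_left (hg k) _
  have he : ∑ k : Fin 24, (co p k : ℤ) * (D k -
      8 * (((if (k.1 + 12) % 24 = j.1 then 1 else 0) + 2 * ((SL.getD k 0).testBit j).toNat : ℕ) : ℤ)) =
      (∑ k : Fin 24, (co p k : ℤ) * D k) -
      8 * ((∑ k : Fin 24, co p k * ((if (k.1 + 12) % 24 = j.1 then 1 else 0) +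
        2 * ((SL.getD k 0).testBit j).toNat) : ℕ) : ℤ) := by
    rw [Nat.cast_sum, Finset.mul_sum, ← Finset.sum_sub_distrib]
    refine Finset.sum_congr rfl fun k _ => ?_
    rw [Nat.cast_mul]
    ring
  rw [he] at hs
  have hc := sum_co p j
  generalize (∑ k : Fin 24, co p k * ((if (k.1 + 12) % 24 = j.1 then 1 else 0) +
        2 * ((SL.getD k 0).testBit j).toNat)) = N at hs hc
  rw [← hc] at hm4
  push_cast at hm4
  omega

/-! ### the relation -/

/-- the sum modulo 4 -/
noncomputable def smN (p x : ℕ) : ℕ :=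
  ∑ k : Fin 24, co p k * qd ((CL.getD k 0).testBit x) ((EL.getD k 0).testBit x)

theorem dot_mod {p x : ℕ} (hp : XL.testBit p = true) (hx : XL.testBit x = true) :
    (32 : ℤ) ∣ dotInt (lv p : GolayPt → ℤ) (lv x : GolayPt → ℤ) - 8 * (smN p x : ℕ) := by
  have h1 := dot_lv hp (lv x)
  have h2 : ∀ k : Fin 24, ∃ m : ℤ, dotInt ((wv k : leechLattice) : GolayPt → ℤ) ((lv x : leechLattice) : GolayPt → ℤ) = 8 * m ∧
      m % 4 = (qd ((CL.getD k 0).testBit x) ((EL.getD k 0).testBit x) : ℕ) := by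
    intro k
    rw [dotInt_comm, lv_coe hx]
    exact dotW hx k
  choose m hm hm4 using h2
  simp only [hm] at h1
  have h3 : ∀ k : Fin 24, (4 : ℤ) ∣ m k - (qd ((CL.getD k 0).testBit x) ((EL.getD k 0).testBit x) : ℕ) := by
    intro k
    have := hm4 k
    omega
  have h4 : (4 : ℤ) ∣ ∑ k : Fin 24, (co p k : ℤ) * (m k - (qd ((CL.getD k 0).testBit x) ((EL.getD k 0).testBit x) : ℕ)) :=
    Finset.dvd_sum fun k _ => Dvd.dvd.mul_left (h3 k) _
  have h5 : ∑ k : Fin 24, (co p k : ℤ) * (m k - (qd ((CL.getD k 0).testBit x) ((EL.getD k 0).testBit x) : ℕ)) =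
      (∑ k : Fin 24, (co p k : ℤ) * m k) - (smN p x : ℕ) := by
    unfold smN
    rw [Nat.cast_sum, ← Finset.sum_sub_distrib]
    refine Finset.sum_congr rfl fun k _ => ?_
    rw [Nat.cast_mul]
    ring
  rw [h5] at h4
  have h6 : ∑ k : Fin 24, (co p k : ℤ) * (8 * m k) = 8 * ∑ k : Fin 24, (co p k : ℤ) * m k := by
    rw [Finset.mul_sum]
    exact Finset.sum_congr rfl fun k _ => by ring
  rw [h6] at h1
  generalize (∑ k : Fin 24, (co p k : ℤ) * m k) = T at h1 h4
  omega

theorem dot_bd {p x : ℕ} (hp : XL.testBit p = true) (hx : XL.testBit x = true) :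
    -32 ≤ dotInt (lv p : GolayPt → ℤ) (lv x : GolayPt → ℤ) ∧ dotInt (lv p : GolayPt → ℤ) (lv x : GolayPt → ℤ) ≤ 32 := by
  have h1 := sqNorm_nonneg ((lv p : GolayPt → ℤ) + (lv x : GolayPt → ℤ))
  have h2 := sqNorm_nonneg ((lv p : GolayPt → ℤ) - (lv x : GolayPt → ℤ))
  rw [sqNorm_add, sqNorm_lv hp, sqNorm_lv hx] at h1
  rw [sqNorm_sub, sqNorm_lv hp, sqNorm_lv hx] at h2
  constructor <;> omega

/-- **The second relation.** -/
theorem testBit_two {p : ℕ} (hp : XL.testBit p = true) (x : ℕ) : (two p).testBit x = true ↔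
    (XL.testBit x = true ∧ |dotInt (lv p : GolayPt → ℤ) (lv x : GolayPt → ℤ)| = 16) := by
  have hs : (∑ k ∈ Finset.range CL.length, qd ((swN (value CL p)).testBit k)
      ((swN (value EL p ^^^ xc SL (swN (value CL p)))).testBit k) *
      qd ((CL.getD k 0).testBit x) ((EL.getD k 0).testBit x)) = smN p x := by
    rw [lenC, Finset.sum_range]
    rfl
  unfold two
  rw [testBit_twoF CL EL SL XL p x (by rw [lenC, lenE]), hs]
  refine and_congr_right fun hx => ?_
  obtain ⟨t, ht⟩ := dot_mod hp hx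
  obtain ⟨h1, h2⟩ := dot_bd hp hx
  generalize dotInt (lv p : GolayPt → ℤ) (lv x : GolayPt → ℤ) = d at ht h1 h2
  constructor
  · intro h
    rw [abs_eq (by norm_num)]
    omega
  · intro h
    rw [abs_eq (by norm_num)] at h
    omega

theorem value_zero : ∀ (l : List ℕ) (p : ℕ), (∀ e ∈ l, e.testBit p = false) → value l p = 0
  | [], _, _ => rfl
  | a :: l, p, h => by
    rw [value, value_zero l p fun e he => h e (List.mem_cons_of_mem _ he), h a List.mem_cons_self]
    rfl

theorem EL_mask : EL.all (fun e => Nat.beq (Nat.land e XL) e) = true := by decide +kernel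

theorem CL_mask : CL.all (fun e => Nat.beq (Nat.land e XL) e) = true := by decide +kernel

theorem value_dead {l : List ℕ} (hl : l.all (fun e => Nat.beq (Nat.land e XL) e) = true) {p : ℕ}
    (hp : XL.testBit p = false) : value l p = 0 := by
  refine value_zero l p fun e he => ?_
  have h1 : e &&& XL = e := Nat.eq_of_beq_eq_true (List.all_eq_true.1 hl e he)
  rw [← h1, Nat.testBit_and, hp, Bool.and_false]

/-- the relation of a dead lane is empty -/
theorem two_dead {p : ℕ} (hp : XL.testBit p = false) : two p = 0 := by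
  have hC : value CL p = 0 := value_dead CL_mask hp
  have hE : value EL p = 0 := value_dead EL_mask hp
  apply Nat.eq_of_testBit_eq
  intro x
  rw [Nat.zero_testBit, Bool.eq_false_iff]
  intro h
  unfold two at h
  rw [testBit_twoF CL EL SL XL p x (by rw [lenC, lenE]), hC, hE] at h
  have h0 : swN 0 = 0 := rfl
  rw [h0, xc_zero, Nat.xor_zero, h0] at h
  simp [qd] at h

/-- invariance -/
theorem two_inv_of {f : ℕ → ℕ} (hU : ∀ i, XL.testBit (f i) = XL.testBit i) (hip : ∀ i j, XL.testBit i = true →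
    XL.testBit j = true → |dotInt (lv (f i) : GolayPt → ℤ) (lv (f j) : GolayPt → ℤ)| =
      |dotInt (lv i : GolayPt → ℤ) (lv j : GolayPt → ℤ)|) (i j : ℕ) :
    (two (f i)).testBit (f j) = (two i).testBit j := by
  cases hi : XL.testBit i
  · rw [two_dead hi, two_dead ((hU i).trans hi), Nat.zero_testBit, Nat.zero_testBit]
  · rw [Bool.eq_iff_iff, testBit_two hi, testBit_two ((hU i).trans hi), hU j]
    exact and_congr_right fun hj => by rw [hip i j hi hj]

theorem abs_ip {v v' w w' : leechLattice} (hv : v' = v ∨ v' = -v) (hw : w' = w ∨ w' = -w) :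
    |dotInt (v' : GolayPt → ℤ) (w' : GolayPt → ℤ)| = |dotInt (v : GolayPt → ℤ) (w : GolayPt → ℤ)| := by
  rcases hv with rfl | rfl <;> rcases hw with rfl | rfl
  · rfl
  · rw [AddSubgroup.coe_neg, dotInt_neg_right, abs_neg]
  · rw [AddSubgroup.coe_neg, dotInt_neg_left, abs_neg]
  · rw [AddSubgroup.coe_neg, AddSubgroup.coe_neg, dotInt_neg_right, dotInt_neg_left, neg_neg]

/-- invariance under the elements of `Co0` permuting the lanes up to signs -/
theorem two_inv_co0 (A : Co0) {f : ℕ → ℕ} (hU : ∀ i, XL.testBit (f i) = XL.testBit i)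
    (hA : ∀ i, XL.testBit i = true → (lv (f i) = A • lv i ∨ lv (f i) = -(A • lv i))) (i j : ℕ) :
    (two (f i)).testBit (f j) = (two i).testBit j := by
  refine two_inv_of hU (fun i j hi hj => ?_) i j
  rw [abs_ip (hA i hi) (hA j hj), Cfsg.Agent.LeechMat.Core.co0_dotInt]

end Cfsg.Agent.H264.TC.TwoPl
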