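import Cfsg.Agent.H264.TC.NoReal39

/-!
# The elements of order 39 of `Co1` are not conjugate to their inverses: certificate (helper264)
-/

set_option autoImplicit false

namespace Cfsg.Agent.H264.TC.NoReal39

open Cfsg.Agent.H123.Cls Cfsg.Agent.MonsterX.LaneLab

/-- the planes of the codes -/
noncomputable def CL : List ℕ := [Nat.land P0 XL, Nat.land P1 XL, Nat.land P2 XL, Nat.land P3 XL, Nat.land P4 XL,
  Nat.land P5 XL, Nat.land P6 XL, Nat.land P7 XL, Nat.land P8 XL, Nat.land P9 XL, Nat.land P10 XL, Nat.land P11 XL,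
  Nat.land P12 XL, Nat.land P13 XL, Nat.land P14 XL, Nat.land P15 XL, Nat.land P16 XL, Nat.land P17 XL, Nat.land P18 XL,
  Nat.land P19 XL, Nat.land P20 XL, Nat.land P21 XL, Nat.land P22 XL, Nat.land P23 XL]

/-- the planes of the dual codes -/
noncomputable def DL : List ℕ := [Nat.land P12 XL, Nat.land P13 XL, Nat.land P14 XL, Nat.land P15 XL, Nat.land P16 XL,
  Nat.land P17 XL, Nat.land P18 XL, Nat.land P19 XL, Nat.land P20 XL, Nat.land P21 XL, Nat.land P22 XL, Nat.land P23 XL,
  Nat.land P0 XL, Nat.land P1 XL, Nat.land P2 XL, Nat.land P3 XL, Nat.land P4 XL, Nat.land P5 XL, Nat.land P6 XL,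
  Nat.land P7 XL, Nat.land P8 XL, Nat.land P9 XL, Nat.land P10 XL, Nat.land P11 XL]

/-- representative 93, order 39 -/
def R93 : List ℕ := [10481515, 8298111, 9027885, 9430422, 10479878, 4530711, 15635896, 16210828, 3328207, 11457133,
  14659216, 7821964, 1589065, 16543661, 8904959, 10757206, 14262139, 4211673, 7731842, 13336208, 11073124, 15122462,
  15308011, 5277094]

/-- the orbit -/
def orb : List ℕ := [30, 123971, 46666, 20469, 66226, 13711, 74579, 1089, 41558, 128994, 3811, 77859, 68269, 6486, 34164,
  93796, 35779, 27288, 48342, 129325, 67025, 127201, 5068, 3901, 15322, 31647, 6449, 71523, 96654, 44059, 101350, 38699,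
  14116, 73666, 116073, 96226, 45, 97526, 97739]

set_option maxRecDepth 100000 in
theorem ok : chk CL DL XL R93 [false, true, false, true, true, false, false, true, true] orb 30 7 19 32 20 123186 = true := by
  decide +kernel

variable {G : Type*} [Group G]

/-- elements of order 39 (representative 93) are not conjugate to their inverses -/
theorem no39 (S : Mdl G) (hU : S.U = XL) (hC : S.C = CL) (hD : S.D = DL) (r : G) (hr : ∀ c, S.L r c = xc R93 c) :
    ¬ IsConj r r⁻¹ := by
  refine chk_sound S hr rfl [false, true, false, true, true, false, false, true, true] orb 30 7 19 32 20 123186 rfl rfl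
    (by norm_num) (by norm_num) (by norm_num) (by norm_num) ?_
  rw [hU, hC, hD]
  exact ok

end Cfsg.Agent.H264.TC.NoReal39
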