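import Mathlib

/-!
# Elements of a prime order which divides the order exactly once (helper264)

* `exists_zpow_conj` : `p` divides `|G|` exactly once, `orderOf x = orderOf y = p`: `y = u * x ^ k * u⁻¹`, `0 < k < p`;
* `conj_of_gen` : if moreover `x` is conjugate to `x ^ m` for a generator `m` of the units mod `p`, then `y = u * x * u⁻¹`.
-/

set_option autoImplicit false

namespace Cfsg.Agent.H264.TC.Sylow

open Subgroup

variable {G : Type*} [Group G] [Finite G]

theorem exists_pow_conj {p : ℕ} (hp : p.Prime) (h1 : p ∣ Nat.card G) (h2 : ¬ p ^ 2 ∣ Nat.card G) {x y : G}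
    (hx : orderOf x = p) (hy : orderOf y = p) : ∃ (u : G) (k : ℕ), y = u * x ^ k * u⁻¹ ∧ ¬ p ∣ k := by
  classical
  have : Fact p.Prime := ⟨hp⟩
  have key : ∀ {z : G}, orderOf z = p → ∃ P : Sylow p G, (P : Subgroup G) = zpowers z := by
    intro z hz
    have hpg : IsPGroup p (zpowers z) := IsPGroup.of_card (n := 1) (by rw [Nat.card_zpowers, hz, pow_one])
    obtain ⟨P, hP⟩ := hpg.exists_le_sylow
    refine ⟨P, ?_⟩
    have hc : Nat.card (P : Subgroup G) = p := by
      obtain ⟨n, hn⟩ := IsPGroup.iff_card.1 P.isPGroup'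
      have hd : p ^ n ∣ Nat.card G := hn ▸ Subgroup.card_subgroup_dvd_card (P : Subgroup G)
      have hn1 : n ≤ 1 := by
        by_contra h
        exact h2 ((pow_dvd_pow p (by omega)).trans hd)
      have hle : p ≤ Nat.card (P : Subgroup G) := by
        have h3 : Nat.card (zpowers z) ≤ Nat.card (P : Subgroup G) := Nat.card_mono (Set.toFinite _) hP
        rwa [Nat.card_zpowers, hz] at h3
      interval_cases n
      · rw [hn, pow_zero] at hle
        exact absurd hle (by have := hp.one_lt; omega)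
      · rw [hn, pow_one]
    refine (Subgroup.eq_of_le_of_card_ge hP ?_).symm
    rw [hc, Nat.card_zpowers, hz]
  obtain ⟨P, hP⟩ := key hx
  obtain ⟨Q, hQ⟩ := key hy
  obtain ⟨g, hg⟩ := MulAction.exists_smul_eq G Q P
  have h3 : g * y * g⁻¹ ∈ zpowers x := by
    rw [← hP, ← hg]
    exact Subgroup.smul_mem_pointwise_smul y (MulAut.conj g) (Q : Subgroup G) (by rw [hQ]; exact mem_zpowers y)
  obtain ⟨k, hk⟩ := (mem_powers_iff_mem_zpowers (x := x)).2 h3
  refine ⟨g⁻¹, k, ?_, ?_⟩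
  · have hk' : x ^ k = g * y * g⁻¹ := hk
    rw [hk']
    group
  · rintro ⟨l, rfl⟩
    have hk' : x ^ (p * l) = g * y * g⁻¹ := hk
    rw [pow_mul, ← hx, pow_orderOf_eq_one, one_pow] at hk'
    have h4 : y = 1 := by
      have : y = g⁻¹ * (g * y * g⁻¹) * g := by group
      rw [this, ← hk']
      group
    rw [h4, orderOf_one] at hy
    exact hp.one_lt.ne hy

theorem conj_of_gen {p : ℕ} (hp : p.Prime) (h1 : p ∣ Nat.card G) (h2 : ¬ p ^ 2 ∣ Nat.card G) {x y t : G} {m : ℕ}
    (hx : orderOf x = p) (hy : orderOf y = p) (ht : x = t * x ^ m * t⁻¹)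
    (hm : ∀ k : ℕ, k < p → k ≠ 0 → ∃ j : ℕ, j < p ∧ m ^ j % p = k) : ∃ u : G, y = u * x * u⁻¹ := by
  obtain ⟨u, k, hk, hpk⟩ := exists_pow_conj hp h1 h2 hx hy
  obtain ⟨j, -, hj⟩ := hm (k % p) (Nat.mod_lt _ hp.pos) fun h => hpk (Nat.dvd_of_mod_eq_zero h)
  have key : ∀ j : ℕ, ∃ v : G, x ^ m ^ j = v * x * v⁻¹ := by
    intro j
    induction j with
    | zero => exact ⟨1, by simp⟩
    | succ j ih =>
      obtain ⟨v, hv⟩ := ih
      refine ⟨v * t⁻¹, ?_⟩
      have h3 : x ^ m = t⁻¹ * x * t := by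
        conv_rhs => rw [ht]
        group
      rw [pow_succ, pow_mul, hv, conj_pow, h3]
      group
  obtain ⟨v, hv⟩ := key j
  refine ⟨u * v, ?_⟩
  have h4 : x ^ k = x ^ m ^ j := by
    rw [pow_eq_pow_iff_modEq, hx]
    exact hj.symm
  rw [hk, h4, hv]
  group

end Cfsg.Agent.H264.TC.Sylow
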