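import Cfsg.Agent.H264.TC.SuzD
import Cfsg.Agent.H264.TC.Sylow
import Cfsg.Agent.H140.TC.Fam
import Cfsg.Agent.S1694

/-!
# The row `Suz` of S4173, S2464, S2452: every `g ≠ 1` is a product of two elements of order 11 (helper264)
-/

set_option autoImplicit false
set_option maxRecDepth 100000
set_option exponentiation.threshold 5000

namespace Cfsg.Agent.H264.TC.Suz

open Subgroup Cfsg.Spor
open Cfsg.Agent.SporadicRecognition.SuzOrder (el)
open Cfsg.Agent.SuzThree.Basic (el_append el_reverse)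
open Cfsg.Agent.OddHalf.Table.SuzRep (ψ ψ_injective)
open Cfsg.Agent.H763.Ore.SuzModel (A N A_conj)
open Cfsg.Agent.H763.Ore.SuzFourC (wA wB)

instance finite_suz : Finite Suz := Nat.finite_of_card_ne_zero (by rw [S1694.result.2]; norm_num)

theorem isConj_11 {y : Suz} (hy : orderOf y = 11) : ∃ u : Suz, y = u * el wX * u⁻¹ :=
  Sylow.conj_of_gen (p := 11) (by norm_num) (by rw [S1694.result.2]; norm_num) (by rw [S1694.result.2]; norm_num)
    order_x hy conj_sq (by decide)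

theorem exists_aut {b : Equiv.Perm (Fin 1782)} (hb : b ∈ A) : ∃ β : Suz ≃* Suz, ∀ t, ψ (β t) = b * ψ t * b⁻¹ := by
  have key : ∀ {b : Equiv.Perm (Fin 1782)}, b ∈ A → ∀ t : Suz, ∃ t' : Suz, ψ t' = b * ψ t * b⁻¹ := fun hb t =>
    A_conj hb (⟨t, rfl⟩ : ψ t ∈ N)
  choose f hf using key hb
  choose g hg using key (A.inv_mem hb)
  refine ⟨⟨⟨f, g, fun t => ψ_injective ?_, fun t => ψ_injective ?_⟩, fun x y => ψ_injective ?_⟩, hf⟩
  · rw [hg, hf]
    group
  · rw [hf, hg]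
    group
  · change ψ (f (x * y)) = ψ (f x * f y)
    rw [map_mul, hf, hf, hf, map_mul]
    group

/-- every nonidentity element is a product of two elements of order 11 -/
theorem exists_pair (g : Suz) (hg : g ≠ 1) : ∃ y z : Suz, orderOf y = 11 ∧ orderOf z = 11 ∧ g = y * z := by
  obtain ⟨i, b, hb, h⟩ := H763.Ore.SuzFin.cover g
  rw [H763.Ore.SuzWord.nA_eq, H763.Ore.SuzWord.nB_eq] at h
  obtain ⟨β, hβ⟩ := exists_aut hb
  have h1 : g = β (el (wA i) * el (wB i) * (el (wA i))⁻¹ * (el (wB i))⁻¹) := by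
    apply ψ_injective
    rw [hβ, h]
  have hi : i ≠ 1 := by
    rintro rfl
    apply hg
    rw [h1]
    have h2 : el (wA ((1 : Fin 37) : ℕ)) * el (wB ((1 : Fin 37) : ℕ)) * (el (wA ((1 : Fin 37) : ℕ)))⁻¹ *
        (el (wB ((1 : Fin 37) : ℕ)))⁻¹ = 1 := by
      have h3 : wA ((1 : Fin 37) : ℕ) = wB ((1 : Fin 37) : ℕ) := rfl
      rw [h3]
      group
    rw [h2, map_one]
  refine ⟨β (el (wU i) * el wX * (el (wU i))⁻¹), β (el (zw i)), ?_, ?_, ?_⟩
  · rw [MulEquiv.orderOf_eq, ← order_x]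
    exact orderOf_injective (MulAut.conj (el (wU i))).toMonoidHom (MulAut.conj (el (wU i))).injective (el wX)
  · rw [MulEquiv.orderOf_eq]
    exact rep i hi
  · rw [← map_mul, h1]
    congr 1
    rw [zw, el_append, el_append, el_append, el_append, el_append, el_append, el_reverse, el_reverse, el_reverse,
      el_reverse]
    group

theorem prd_suz (g : Suz) (hg : g ≠ 1) : ∃ u v : Suz, g = (u * el wX * u⁻¹) * (v * el wX * v⁻¹) := by
  obtain ⟨y, z, hy, hz, h⟩ := exists_pair g hg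
  obtain ⟨u, hu⟩ := isConj_11 hy
  obtain ⟨v, hv⟩ := isConj_11 hz
  exact ⟨u, v, by rw [← hu, ← hv, h]⟩

/-- **the row `Suz` of S4173, S2464, S2452** -/
theorem pp_Suz {S : Type*} [Group S] (h : Spor.IsoSuz S) : H494.TC.PP S := by
  obtain ⟨e⟩ := h
  exact H494.TC.PP.of_equiv e ⟨el wX, by rw [order_x]; norm_num, by rw [order_x]; norm_num, prd_suz⟩

theorem tc_Suz {S : Type*} [Group S] (h : Spor.IsoSuz S) : H140.TC.TC S := (pp_Suz h).tc

theorem tc6_Suz {S : Type*} [Group S] (h : Spor.IsoSuz S) : ∃ x y : S, Nat.Coprime (orderOf x) 6 ∧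
    Nat.Coprime (orderOf y) 6 ∧ ∀ g : S, g ≠ 1 → ∃ u v : S, g = (u * x * u⁻¹) * (v * y * v⁻¹) := (pp_Suz h).cop

end Cfsg.Agent.H264.TC.Suz
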