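import Cfsg.Agent.H123.Cls.LRun
import Cfsg.Agent.MonsterX.LaneLab

/-!
# The elements of order 39 of `Co1` are not conjugate to their inverses (helper264)

The cell `M` of the points `x` with `B (r ^ j x, x) = b j` (`j = 1, …, 9`) is a single orbit of `r` (39 points) and is
invariant under any `g` inverting `r`; a multiple `g'` of `g` by a power of `r` fixes a point `p` of `M`, so
`g' (1 + r ^ 7 + r ^ 19) p = (1 + r ^ 32 + r ^ 20) p`; the left hand side is a point and the right hand side is not.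
-/

set_option autoImplicit false

namespace Cfsg.Agent.H264.TC.NoReal39

open Equiv Cfsg.Agent.H123.Cls Cfsg.Agent.Lib.BitNet
open Cfsg.Agent.Lib.BitNetSimple (force force_eq tb tb_eq)

/-- the points `x` of the mask `U` with `B (r ^ j x, x) = b j` -/
noncomputable def cel (C D R : List ℕ) (bs : List Bool) : List ℕ → ℕ → ℕ :=
  List.rec (fun _ U => U) (fun b _ ih cur U => fB (slfF D C cur 0) fun m => fB (Nat.land U m) fun x =>
    mapF (fun c => xF R c 0) cur fun cur' => cnd b (ih cur' x) (fB (Nat.xor U x) fun y => ih cur' y)) bs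

theorem cel_cons (C D R : List ℕ) (b : Bool) (bs : List Bool) (cur : List ℕ) (U : ℕ) : cel C D R (b :: bs) cur U =
    cel C D R bs (cur.map fun c => xc R c) (bif b then U &&& slf D C cur else U ^^^ (U &&& slf D C cur)) := by
  have hmp : (cur.map fun x => xF R x 0) = cur.map fun x => xc R x :=
    List.map_congr_left fun x _ => by rw [xF_eq, Nat.zero_xor]
  show fB (slfF D C cur 0) (fun m => fB (Nat.land U m) fun x =>
    mapF (fun c => xF R c 0) cur fun cur' => cnd b (cel C D R bs cur' x) (fB (Nat.xor U x) fun y => cel C D R bs cur' y)) = _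
  rw [fB_eq, fB_eq, mapF_eq, hmp, fB_eq, slfF_eq, Nat.zero_xor]
  cases b <;> rfl

/-- the mask of a list of points -/
noncomputable def mk (l : List ℕ) : ℕ :=
  List.rec 0 (fun a _ ih => fB ih fun m => Nat.lor m (Nat.shiftLeft 1 a)) l

theorem testBit_mk : ∀ (l : List ℕ) (i : ℕ), (mk l).testBit i = true → i ∈ l
  | [], i, h => by
    have e : mk [] = 0 := rfl
    rw [e, Nat.zero_testBit] at h
    exact absurd h (by simp)
  | a :: l, i, h => by
    have e : mk (a :: l) = mk l ||| (1 <<< a) := by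
      show fB (mk l) (fun m => Nat.lor m (Nat.shiftLeft 1 a)) = _
      rw [fB_eq]
      rfl
    rw [e, Nat.testBit_or, Bool.or_eq_true] at h
    rcases h with h | h
    · exact List.mem_cons_of_mem _ (testBit_mk l i h)
    · rw [Nat.one_shiftLeft, Nat.testBit_two_pow, decide_eq_true_iff] at h
      rw [h]
      exact List.mem_cons_self

/-- the codes of the points of the list are `v, r v, r ^ 2 v, …, w = r ^ n v` -/
noncomputable def chain (C R : List ℕ) (w : ℕ) (l : List ℕ) : ℕ → Bool :=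
  List.rec (fun v => Nat.beq v w) (fun a _ ih v => band (Nat.beq (cdF C a) v) (force (xF R v 0) ih)) l

theorem chain_cons (C R : List ℕ) (w a : ℕ) (l : List ℕ) (v : ℕ) :
    chain C R w (a :: l) v = band (Nat.beq (cdF C a) v) (chain C R w l (xc R v)) := by
  show band (Nat.beq (cdF C a) v) (force (xF R v 0) (chain C R w l)) = _
  rw [force_eq, xF_eq, Nat.zero_xor]

/-- the certificate -/
noncomputable def chk (C D : List ℕ) (U : ℕ) (R : List ℕ) (bs : List Bool) (l : List ℕ) (p i j i' j' q : ℕ) : Bool :=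
  force (cdF C p) fun v =>
  band (fB (cel C D R bs R U) fun m => band (Nat.beq m (mk l)) (tb m p))
    (band (band (Nat.blt p (Nat.pow 2 17)) (tb U p))
      (band (chain C R v l v)
        (band (band (Nat.blt q (Nat.pow 2 17)) (band (tb U q)
          (Nat.beq (cdF C q) (Nat.xor (Nat.xor v (cdF C (nth l i))) (cdF C (nth l j))))))
          (fB (Nat.xor (Nat.xor v (cdF C (nth l i'))) (cdF C (nth l j'))) fun w => Nat.beq (eqB C w U) 0))))

/-! ### soundness -/

section

variable {G : Type*} [Group G] (S : Mdl G)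

theorem L_pow {r : G} {R : List ℕ} (hr : ∀ c, S.L r c = xc R c) (k : ℕ) (v : ℕ) :
    S.L (r ^ (k + 1)) v = S.L (r ^ k) (xc R v) := by
  rw [pow_succ, S.L_mul, hr]

theorem cel_inv {r g : G} (hg : g * r = r⁻¹ * g) {R : List ℕ} (hr : ∀ c, S.L r c = xc R c) :
    ∀ (bs : List Bool) (cur : List ℕ) (U k : ℕ), cur.length = 24 → (∀ c, xc cur c = S.L (r ^ k) c) →
      (∀ i : Fin (2 ^ 17), U.testBit (S.π g i) = U.testBit i) → ∀ i : Fin (2 ^ 17),
      (cel S.C S.D R bs cur U).testBit (S.π g i) = (cel S.C S.D R bs cur U).testBit i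
  | [], cur, U, k, _, _, hU, i => hU i
  | b :: bs, cur, U, k, hl, hc, hU, i => by
    rw [cel_cons]
    have hgk : g * r ^ k = (r ^ k)⁻¹ * g := by
      have h1 : g * r ^ k * g⁻¹ = (g * r * g⁻¹) ^ k := by rw [conj_pow]
      have h2 : g * r * g⁻¹ = r⁻¹ := by rw [hg, mul_inv_cancel_right]
      rw [h2, inv_pow] at h1
      rw [← h1, inv_mul_cancel_right]
    have hs : ∀ x : Fin (2 ^ 17), (slf S.D S.C cur).testBit x = S.B (S.L (r ^ k) (value S.C x)) (value S.C x) := by
      intro x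
      rw [testBit_slf _ _ _ _ (by rw [S.lenC, hl]), S.B_row, hc]
    refine cel_inv hg hr bs _ _ (k + 1) (by rw [List.length_map, hl]) (fun c => ?_) (fun x => ?_) i
    · rw [xc_map, hc, ← hr, ← S.L_mul, ← pow_succ']
    · have hsx : (slf S.D S.C cur).testBit (S.π g x) = (slf S.D S.C cur).testBit x := by
        rw [hs, hs, ← S.cod, ← S.L_mul]
        have e1 : S.L (r ^ k * g) (value S.C x) = S.L g (S.L (r ^ k)⁻¹ (value S.C x)) := by
          rw [← S.L_mul]
          congr 1
          have : r ^ k * g = g * (r ^ k)⁻¹ := by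
            rw [eq_mul_inv_iff_mul_eq, mul_assoc, hgk, mul_inv_cancel_left]
          rw [this]
        rw [e1, S.B_L, ← S.B_L (r ^ k), ← S.L_mul, mul_inv_cancel, S.L_one _ (S.val_lt _), S.B_symm]
      cases b
      · simp only [cond_false, Nat.testBit_xor, Nat.testBit_and, hU x, hsx]
      · simp only [cond_true, Nat.testBit_and, hU x, hsx]

theorem chain_spec {r : G} {R : List ℕ} (hr : ∀ c, S.L r c = xc R c) (w : ℕ) : ∀ (l : List ℕ) (v : ℕ),
    v < 2 ^ 24 → chain S.C R w l v = true →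
    (∀ k < l.length, value S.C (l.getD k 0) = S.L (r ^ k) v) ∧ S.L (r ^ l.length) v = w
  | [], v, hv, h => by
    have e : v = w := Nat.eq_of_beq_eq_true h
    refine ⟨fun k hk => absurd hk (by simp), ?_⟩
    rw [List.length_nil, pow_zero, S.L_one v hv, e]
  | a :: l, v, hv, h => by
    rw [chain_cons] at h
    obtain ⟨h1, h2⟩ := band_eq.1 h
    have e : value S.C a = v := by rw [← cdF_eq]; exact Nat.eq_of_beq_eq_true h1
    have hv' : xc R v < 2 ^ 24 := by rw [← hr]; exact S.L_lt _ _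
    obtain ⟨h3, h4⟩ := chain_spec hr w l _ hv' h2
    refine ⟨fun k hk => ?_, ?_⟩
    · cases k with
      | zero => rw [List.getD_cons_zero, pow_zero, S.L_one v hv, e]
      | succ k => rw [List.getD_cons_succ, h3 k (by simpa using hk), L_pow S hr]
    · rw [List.length_cons, L_pow S hr, h4]

/-- soundness -/
theorem chk_sound {r : G} {R : List ℕ} (hr : ∀ c, S.L r c = xc R c) (hRl : R.length = 24) (bs : List Bool) (l : List ℕ)
    (p i j i' j' q : ℕ) (hi : i + i' = l.length) (hj : j + j' = l.length) (hi0 : 0 < i) (hj0 : 0 < j) (hi1 : 0 < i')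
    (hj1 : 0 < j') (h : chk S.C S.D S.U R bs l p i j i' j' q = true) : ¬ IsConj r r⁻¹ := by
  intro hconj
  obtain ⟨g, hg0⟩ := isConj_iff.1 hconj
  have hg : g * r = r⁻¹ * g := by rw [← hg0, inv_mul_cancel_right]
  rw [chk, force_eq, fB_eq, fB_eq] at h
  obtain ⟨hA, h⟩ := band_eq.1 h
  obtain ⟨hB, h⟩ := band_eq.1 h
  obtain ⟨hC, h⟩ := band_eq.1 h
  obtain ⟨hD, hE⟩ := band_eq.1 h
  obtain ⟨hA1, hA2⟩ := band_eq.1 hA
  obtain ⟨hB1, hB2⟩ := band_eq.1 hB
  obtain ⟨hD1, hD⟩ := band_eq.1 hD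
  obtain ⟨hD2, hD3⟩ := band_eq.1 hD
  rw [cdF_eq] at hC hD3 hE
  rw [cdF_eq, cdF_eq, cdF_eq, nth_eq, nth_eq] at hD3
  rw [cdF_eq, cdF_eq, nth_eq, nth_eq, eqB_eq] at hE
  have hp : p < 2 ^ 17 := by rw [Nat.blt_eq] at hB1; exact hB1
  have hq : q < 2 ^ 17 := by rw [Nat.blt_eq] at hD1; exact hD1
  set v := value S.C p with hv
  have hvl : v < 2 ^ 24 := S.val_lt p
  obtain ⟨hch, hend⟩ := chain_spec S hr v l v hvl hC
  -- the image of the base point
  have hM : (cel S.C S.D R bs R S.U) = mk l := Nat.eq_of_beq_eq_true hA1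
  have hpM : (mk l).testBit p = true := by rw [← hM, ← tb_eq]; exact hA2
  have hgp : (mk l).testBit (S.π g ⟨p, hp⟩) = true := by
    rw [← hM, cel_inv S hg hr bs R S.U 1 hRl (fun c => by rw [pow_one, hr]) (fun i => S.U_inv g i), hM]
    exact hpM
  obtain ⟨k, hk, hkl⟩ := List.getElem_of_mem (testBit_mk l _ hgp)
  have hk1 : S.L g v = S.L (r ^ k) v := by
    rw [← hch k hk, List.getD_eq_getElem _ _ hk, hkl]
    exact S.cod g ⟨p, hp⟩
  -- correct by a power of `r`
  obtain ⟨g', hg'⟩ : ∃ g', g' = (r ^ k)⁻¹ * g := ⟨_, rfl⟩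
  have hfix : S.L g' v = v := by
    rw [hg', S.L_mul, hk1, ← S.L_mul, inv_mul_cancel, S.L_one v hvl]
  have hcom : ∀ m, g' * r ^ m = (r ^ m)⁻¹ * g' := by
    intro m
    have h1 : g * r ^ m * g⁻¹ = (r ^ m)⁻¹ := by
      rw [← conj_pow, hg0, inv_pow]
    have h2 : g * r ^ m = (r ^ m)⁻¹ * g := by rw [← h1, inv_mul_cancel_right]
    rw [hg', mul_assoc, h2, ← mul_assoc, ← mul_assoc, ← mul_inv_rev, ← mul_inv_rev, ← pow_add, ← pow_add, add_comm]
  have hpw : ∀ m m', m + m' = l.length → 0 < m' → 0 < m → S.L g' (value S.C (l.getD m 0)) = value S.C (l.getD m' 0) := by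
    intro m m' hmm h0 h1
    rw [hch m (by omega), hch m' (by omega), ← S.L_mul, hcom, S.L_mul, hfix]
    conv_lhs => rw [← hend, ← hmm, pow_add, S.L_mul, ← S.L_mul, inv_mul_cancel, S.L_one _ (S.L_lt _ _)]
  -- the images of the sums
  have hw : value S.C q = Nat.xor (Nat.xor v (value S.C (l.getD i 0))) (value S.C (l.getD j 0)) :=
    Nat.eq_of_beq_eq_true hD3
  have hq1 : value S.C (S.π g' ⟨q, hq⟩) = Nat.xor (Nat.xor v (value S.C (l.getD i' 0))) (value S.C (l.getD j' 0)) := by
    rw [← S.cod]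
    show S.L g' (value S.C q) = _
    rw [hw]
    show S.L g' ((v ^^^ value S.C (l.getD i 0)) ^^^ value S.C (l.getD j 0)) = _
    rw [S.L_xor, S.L_xor, hfix, hpw i i' hi hi1 hi0, hpw j j' hj hj1 hj0]
    rfl
  have hq2 : (eqVal S.C (Nat.xor (Nat.xor v (value S.C (l.getD i' 0))) (value S.C (l.getD j' 0))) S.U).testBit
      (S.π g' ⟨q, hq⟩) = true := by
    rw [testBit_eqVal, hq1, S.U_inv]
    have : S.U.testBit q = true := by rw [← tb_eq]; exact hD2
    simp [this]
  have hz : eqVal S.C (Nat.xor (Nat.xor v (value S.C (l.getD i' 0))) (value S.C (l.getD j' 0))) S.U = 0 :=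
    Nat.eq_of_beq_eq_true hE
  rw [hz, Nat.zero_testBit] at hq2
  exact absurd hq2 (by simp)

end

end Cfsg.Agent.H264.TC.NoReal39
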