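import Cfsg.Agent.H763.Ore.SuzFin
import Cfsg.Agent.H494.TC.Base

/-!
# `Suz`: every `g ≠ 1` is a product of two elements of order 11 (S4173, S2464, S2452; helper264)
-/

set_option autoImplicit false
set_option maxRecDepth 100000
set_option exponentiation.threshold 5000

namespace Cfsg.Agent.H264.TC.Suz

open Cfsg.Spor Cfsg.Agent.H763.Ore.SuzFour Cfsg.Agent.H763.Ore.SuzFourC
open Cfsg.Agent.SporadicRecognition.SuzOrder (el)
open Cfsg.Agent.SuzThree.Basic (el_append el_reverse t5 eq_one_of_t5 mv)
open Cfsg.Agent.SporadicRecognition.SuzPhi (wd)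

/-- an element of order 11 -/
def wX : List Suz.Gen := [.b, .c, .d, .e, .f, .g]

/-- the conjugating words -/
def wU : ℕ → List Suz.Gen
  | 2 => [.f, .d]
  | 4 => [.b]
  | 7 => [.e]
  | 8 => [.d, .b]
  | 9 => [.c]
  | 11 => [.d, .b]
  | 12 => [.e]
  | 13 => [.d]
  | 15 => [.e, .c]
  | 16 => [.e]
  | 17 => [.e, .c]
  | 18 => [.d, .b]
  | 19 => [.b]
  | 20 => [.b]
  | 21 => [.e]
  | 23 => [.d]
  | 25 => [.c]
  | 26 => [.e, .c]
  | 27 => [.e, .c]
  | 28 => [.d]
  | 29 => [.c, .b, .a]
  | 30 => [.b, .a]
  | 31 => [.e]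
  | 32 => [.b, .g]
  | 35 => [.b]
  | _ => []

/-- `y⁻¹ g` -/
def zw (i : ℕ) : List Suz.Gen :=
  wU i ++ (wX.reverse ++ ((wU i).reverse ++ (wA i ++ (wB i ++ ((wA i).reverse ++ (wB i).reverse)))))

theorem el_pow (w : List Suz.Gen) (n : ℕ) : el (List.replicate n w).flatten = el w ^ n := by
  induction n with
  | zero => rw [pow_zero]; rfl
  | succ n ih => rw [List.replicate_succ, List.flatten_cons, el_append, ih, pow_succ']

/-- the certificate: `w ^ 11 = 1` and `w` moves `p` to `q ≠ p` -/
noncomputable def cert (w : List Suz.Gen) (p q : ℕ) : Bool :=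
  t5 (wd (List.replicate 11 w).flatten) && (mv (wd w) p q && !Nat.beq p q)

theorem order_of {w : List Suz.Gen} {p q : ℕ} (h : cert w p q = true) : orderOf (el w) = 11 := by
  simp only [cert, Bool.and_eq_true, Bool.not_eq_true', ← Bool.not_eq_true, Nat.beq_eq] at h
  obtain ⟨h1, h2, h3⟩ := h
  have : Fact (Nat.Prime 11) := ⟨by norm_num⟩
  apply orderOf_eq_prime
  · rw [← el_pow]
    exact eq_one_of_t5 (Cfsg.Agent.SuzThree.Basic.Rep.el _) h1
  · intro h4
    have h5 := (Cfsg.Agent.SuzThree.Basic.Rep.el w).pt h2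
    rw [h4, map_one] at h5
    exact h3 h5

theorem order_x : orderOf (el wX) = 11 := order_of (w := wX) (p := 0) (q := 2) (by decide +kernel)

theorem c0 : orderOf (el (zw 0)) = 11 := order_of (p := 0) (q := 1) (by decide +kernel)
theorem c2 : orderOf (el (zw 2)) = 11 := order_of (p := 0) (q := 334) (by decide +kernel)
theorem c3 : orderOf (el (zw 3)) = 11 := order_of (p := 0) (q := 1387) (by decide +kernel)
theorem c4 : orderOf (el (zw 4)) = 11 := order_of (p := 0) (q := 31) (by decide +kernel)
theorem c5 : orderOf (el (zw 5)) = 11 := order_of (p := 0) (q := 25) (by decide +kernel)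
theorem c6 : orderOf (el (zw 6)) = 11 := order_of (p := 0) (q := 1) (by decide +kernel)
theorem c7 : orderOf (el (zw 7)) = 11 := order_of (p := 0) (q := 26) (by decide +kernel)
theorem c8 : orderOf (el (zw 8)) = 11 := order_of (p := 0) (q := 101) (by decide +kernel)
theorem c9 : orderOf (el (zw 9)) = 11 := order_of (p := 0) (q := 241) (by decide +kernel)
theorem c10 : orderOf (el (zw 10)) = 11 := order_of (p := 0) (q := 16) (by decide +kernel)
theorem c11 : orderOf (el (zw 11)) = 11 := order_of (p := 0) (q := 38) (by decide +kernel)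
theorem c12 : orderOf (el (zw 12)) = 11 := order_of (p := 0) (q := 1) (by decide +kernel)
theorem c13 : orderOf (el (zw 13)) = 11 := order_of (p := 0) (q := 1) (by decide +kernel)
theorem c14 : orderOf (el (zw 14)) = 11 := order_of (p := 0) (q := 1) (by decide +kernel)
theorem c15 : orderOf (el (zw 15)) = 11 := order_of (p := 0) (q := 13) (by decide +kernel)
theorem c16 : orderOf (el (zw 16)) = 11 := order_of (p := 0) (q := 1) (by decide +kernel)
theorem c17 : orderOf (el (zw 17)) = 11 := order_of (p := 0) (q := 32) (by decide +kernel)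
theorem c18 : orderOf (el (zw 18)) = 11 := order_of (p := 0) (q := 114) (by decide +kernel)
theorem c19 : orderOf (el (zw 19)) = 11 := order_of (p := 0) (q := 11) (by decide +kernel)
theorem c20 : orderOf (el (zw 20)) = 11 := order_of (p := 0) (q := 43) (by decide +kernel)
theorem c21 : orderOf (el (zw 21)) = 11 := order_of (p := 0) (q := 39) (by decide +kernel)
theorem c22 : orderOf (el (zw 22)) = 11 := order_of (p := 0) (q := 94) (by decide +kernel)
theorem c23 : orderOf (el (zw 23)) = 11 := order_of (p := 0) (q := 643) (by decide +kernel)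
theorem c24 : orderOf (el (zw 24)) = 11 := order_of (p := 0) (q := 1) (by decide +kernel)
theorem c25 : orderOf (el (zw 25)) = 11 := order_of (p := 0) (q := 1) (by decide +kernel)
theorem c26 : orderOf (el (zw 26)) = 11 := order_of (p := 0) (q := 350) (by decide +kernel)
theorem c27 : orderOf (el (zw 27)) = 11 := order_of (p := 0) (q := 1419) (by decide +kernel)
theorem c28 : orderOf (el (zw 28)) = 11 := order_of (p := 0) (q := 1) (by decide +kernel)
theorem c29 : orderOf (el (zw 29)) = 11 := order_of (p := 0) (q := 46) (by decide +kernel)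
theorem c30 : orderOf (el (zw 30)) = 11 := order_of (p := 0) (q := 2) (by decide +kernel)
theorem c31 : orderOf (el (zw 31)) = 11 := order_of (p := 0) (q := 204) (by decide +kernel)
theorem c32 : orderOf (el (zw 32)) = 11 := order_of (p := 0) (q := 2) (by decide +kernel)
theorem c33 : orderOf (el (zw 33)) = 11 := order_of (p := 0) (q := 1) (by decide +kernel)
theorem c34 : orderOf (el (zw 34)) = 11 := order_of (p := 0) (q := 1) (by decide +kernel)
theorem c35 : orderOf (el (zw 35)) = 11 := order_of (p := 0) (q := 2) (by decide +kernel)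
theorem c36 : orderOf (el (zw 36)) = 11 := order_of (p := 0) (q := 1) (by decide +kernel)

/-- **the representatives** -/
theorem rep (i : Fin 37) (hi : i ≠ 1) : orderOf (el (zw i)) = 11 := by
  fin_cases i
  · exact c0
  · exact absurd rfl hi
  · exact c2
  · exact c3
  · exact c4
  · exact c5
  · exact c6
  · exact c7
  · exact c8
  · exact c9
  · exact c10
  · exact c11
  · exact c12
  · exact c13
  · exact c14
  · exact c15
  · exact c16
  · exact c17
  · exact c18
  · exact c19
  · exact c20
  · exact c21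
  · exact c22
  · exact c23
  · exact c24
  · exact c25
  · exact c26
  · exact c27
  · exact c28
  · exact c29
  · exact c30
  · exact c31
  · exact c32
  · exact c33
  · exact c34
  · exact c35
  · exact c36

/-- the normalizing word -/
def wT : List Suz.Gen := [.a, .b, .f, .g, .b, .a, .c, .b, .d, .c, .e, .d, .c, .b, .a, .b, .f, .g, .d, .c, .b, .f, .c, .d, .e, .d, .c, .d, .c, .b, .a]

theorem rel : t5 (wd (wT.reverse ++ (wX ++ (wX ++ (wT ++ wX.reverse))))) = true := by decide +kernel

theorem conj_sq : el wX = (el wT)⁻¹ * (el wX) ^ 2 * ((el wT)⁻¹)⁻¹ := by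
  have h := eq_one_of_t5 (Cfsg.Agent.SuzThree.Basic.Rep.el _) rel
  rw [el_append, el_append, el_append, el_append, el_reverse, el_reverse, ← mul_assoc, ← mul_assoc, ← mul_assoc,
    mul_inv_eq_one] at h
  refine h.symm.trans ?_
  rw [inv_inv, pow_two]
  group

end Cfsg.Agent.H264.TC.Suz
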