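import Cfsg.Agent.H264.TC.TwoLab
import Cfsg.Agent.H264.TC.NoReal39Data
import Cfsg.Agent.H123.Cls.LTwo
import Cfsg.Agent.MonsterX.LaneVec

/-!
# The scalar products of the minimal vectors modulo 32: certificates (helper264)
-/

set_option autoImplicit false

namespace Cfsg.Agent.H264.TC.TwoChk

open Cfsg Cfsg.Agent.Monster Cfsg.Agent.Monster.VecEngine Cfsg.Agent.Monster.PlaneArith Cfsg.Agent.Monster.LevelSets
open Cfsg.Agent.LeechMat.Code Cfsg.Agent.LeechMat.Elements Cfsg.Agent.MonsterX.Psi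
open Cfsg.Agent.MonsterX.LaneLab Cfsg.Agent.MonsterX.LaneVec Cfsg.Agent.H264.TC.TwoLab
open Cfsg.Agent.H264.TC.NoReal39 (CL)
open Cfsg.Agent.H123.Cls (qd)

/-- The value is `8 m` with `m` congruent to `p + 2 e` modulo 4, in the lanes of `XL`. -/
noncomputable def is8q (p e : ℕ) (Y : Pl) : Bool :=
  and (is8 p Y) (Nat.beq (Nat.land XL (Nat.xor e (hd (tl (tl (tl (tl Y))))))) 0)

theorem bt_eq_of {p q i : ℕ} (h : Nat.beq (Nat.land XL (Nat.xor p q)) 0 = true) (hi : XL.testBit i = true) :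
    bt q i = bt p i := by
  have h1 : (XL &&& (p ^^^ q)).testBit i = false := of_mask_zero h i
  rw [Nat.testBit_and, hi, Bool.true_and, Nat.testBit_xor] at h1
  unfold bt
  cases h2 : p.testBit i <;> cases h3 : q.testBit i <;> rw [h2, h3] at h1 <;> simp at h1 ⊢

theorem is8q_sound {p e : ℕ} {Y : Pl} (h : is8q p e Y = true) {i : ℕ} (hi : XL.testBit i = true) :
    ∃ m : ℤ, val Y i = 8 * m ∧ m % 4 = bt p i + 2 * bt e i := by
  unfold is8q is8 at h
  simp only [Bool.and_eq_true] at h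
  obtain ⟨⟨⟨h0, h1⟩, h2, h3⟩, h4⟩ := h
  refine ⟨val (tl (tl (tl Y))) i, ?_, ?_⟩
  · rw [val_hd_tl Y, val_hd_tl (tl Y), val_hd_tl (tl (tl Y)), bt_zero_of h0 hi, bt_zero_of h1 hi, bt_zero_of h2 hi]
    ring
  · rw [val_hd_tl (tl (tl (tl Y))), val_hd_tl (tl (tl (tl (tl Y)))), bt_eq_of h3 hi, bt_eq_of h4 hi]
    have hb : ∀ n : ℕ, bt n i = 0 ∨ bt n i = 1 := by
      intro n
      unfold bt
      cases n.testBit i <;> simp
    rcases hb p with h5 | h5 <;> rcases hb e with h6 | h6 <;> rw [h5, h6] <;> omega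

/-- The check of a scalar product with a constant vector `x`. -/
noncomputable def chkE (x : Pl) (p e : ℕ) : Bool := lin 131072 idxL x (.sgn 0) fun y => is8q p e y

theorem chkE_sound {x : Pl} {p e : ℕ} (h : chkE x p e = true) {i : ℕ} (hi : XL.testBit i = true) :
    ∃ m : ℤ, linVal idxL x i = 8 * m ∧ m % 4 = bt p i + 2 * bt e i := by
  obtain ⟨y, hy, hk⟩ := lin_sound h
  obtain ⟨m, hm, hm2⟩ := is8q_sound hk hi
  refine ⟨m, ?_, hm2⟩
  rw [← hm, hy i (lt_of_XL hi), val_sgn, bt_zero]; ring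

theorem eX0 : chkE xX0 P0 E0 = true := by decide +kernel

theorem eX1 : chkE xX1 P1 E1 = true := by decide +kernel

theorem eX2 : chkE xX2 P2 E2 = true := by decide +kernel

theorem eX3 : chkE xX3 P3 E3 = true := by decide +kernel

theorem eX4 : chkE xX4 P4 E4 = true := by decide +kernel

theorem eX5 : chkE xX5 P5 E5 = true := by decide +kernel

theorem eX6 : chkE xX6 P6 E6 = true := by decide +kernel

theorem eX7 : chkE xX7 P7 E7 = true := by decide +kernel

theorem eX8 : chkE xX8 P8 E8 = true := by decide +kernel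

theorem eX9 : chkE xX9 P9 E9 = true := by decide +kernel

theorem eX10 : chkE xX10 P10 E10 = true := by decide +kernel

theorem eX11 : chkE xX11 P11 E11 = true := by decide +kernel

theorem eZ0 : chkE xZ0 P12 E12 = true := by decide +kernel

theorem eZ1 : chkE xZ1 P13 E13 = true := by decide +kernel

theorem eZ2 : chkE xZ2 P14 E14 = true := by decide +kernel

theorem eZ3 : chkE xZ3 P15 E15 = true := by decide +kernel

theorem eZ4 : chkE xZ4 P16 E16 = true := by decide +kernel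

theorem eZ5 : chkE xZ5 P17 E17 = true := by decide +kernel

theorem eZ6 : chkE xZ6 P18 E18 = true := by decide +kernel

theorem eZ7 : chkE xZ7 P19 E19 = true := by decide +kernel

theorem eZ8 : chkE xZ8 P20 E20 = true := by decide +kernel

theorem eZ9 : chkE xZ9 P21 E21 = true := by decide +kernel

theorem eZ10 : chkE xZ10 P22 E22 = true := by decide +kernel

theorem eZ11 : chkE xZ11 P23 E23 = true := by decide +kernel

/-- the second label planes -/
noncomputable def EL : List ℕ := [E0, E1, E2, E3, E4, E5, E6, E7, E8, E9, E10, E11, E12, E13, E14, E15, E16, E17, E18, E19, E20, E21, E22, E23]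

/-- the codes of the 24 vectors -/
def ws : List ℕ := xs ++ zs

theorem isLeech_ws : ∀ k : Fin 24, isLeech (ws.getD k 0) = true := by decide +kernel

/-- the 24 vectors -/
def wv (k : Fin 24) : leechLattice := ⟨vec (ws.getD k 0), isLeech_sound (isLeech_ws k)⟩

theorem bt_nat (n i : ℕ) : bt n i = ((n.testBit i).toNat : ℤ) := by
  unfold bt
  cases n.testBit i <;> rfl

theorem qd_of {p e l : ℕ} (hl : XL.testBit l = true) {m : ℤ} (h : m % 4 = bt p l + 2 * bt e l) :
    m % 4 = (qd ((Nat.land p XL).testBit l) (e.testBit l) : ℕ) := by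
  have h1 : (Nat.land p XL).testBit l = p.testBit l := by
    show (p &&& XL).testBit l = _
    rw [Nat.testBit_and, hl, Bool.and_true]
  rw [h, h1, bt_nat, bt_nat]
  unfold qd
  push_cast
  ring

theorem dotW {l : ℕ} (hl : XL.testBit l = true) (k : Fin 24) :
    ∃ m : ℤ, dotInt (lvec l) (wv k : leechLattice) = 8 * m ∧
      m % 4 = (qd ((CL.getD k 0).testBit l) ((EL.getD k 0).testBit l) : ℕ) := by
  show ∃ m : ℤ, dotInt (lvec l) (vec (ws.getD k 0)) = 8 * m ∧ _
  fin_cases k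
  · exact ⟨_, (dot_eq hxX0 l).trans (chkE_sound eX0 hl).choose_spec.1, qd_of hl (chkE_sound eX0 hl).choose_spec.2⟩
  · exact ⟨_, (dot_eq hxX1 l).trans (chkE_sound eX1 hl).choose_spec.1, qd_of hl (chkE_sound eX1 hl).choose_spec.2⟩
  · exact ⟨_, (dot_eq hxX2 l).trans (chkE_sound eX2 hl).choose_spec.1, qd_of hl (chkE_sound eX2 hl).choose_spec.2⟩
  · exact ⟨_, (dot_eq hxX3 l).trans (chkE_sound eX3 hl).choose_spec.1, qd_of hl (chkE_sound eX3 hl).choose_spec.2⟩
  · exact ⟨_, (dot_eq hxX4 l).trans (chkE_sound eX4 hl).choose_spec.1, qd_of hl (chkE_sound eX4 hl).choose_spec.2⟩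
  · exact ⟨_, (dot_eq hxX5 l).trans (chkE_sound eX5 hl).choose_spec.1, qd_of hl (chkE_sound eX5 hl).choose_spec.2⟩
  · exact ⟨_, (dot_eq hxX6 l).trans (chkE_sound eX6 hl).choose_spec.1, qd_of hl (chkE_sound eX6 hl).choose_spec.2⟩
  · exact ⟨_, (dot_eq hxX7 l).trans (chkE_sound eX7 hl).choose_spec.1, qd_of hl (chkE_sound eX7 hl).choose_spec.2⟩
  · exact ⟨_, (dot_eq hxX8 l).trans (chkE_sound eX8 hl).choose_spec.1, qd_of hl (chkE_sound eX8 hl).choose_spec.2⟩
  · exact ⟨_, (dot_eq hxX9 l).trans (chkE_sound eX9 hl).choose_spec.1, qd_of hl (chkE_sound eX9 hl).choose_spec.2⟩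
  · exact ⟨_, (dot_eq hxX10 l).trans (chkE_sound eX10 hl).choose_spec.1, qd_of hl (chkE_sound eX10 hl).choose_spec.2⟩
  · exact ⟨_, (dot_eq hxX11 l).trans (chkE_sound eX11 hl).choose_spec.1, qd_of hl (chkE_sound eX11 hl).choose_spec.2⟩
  · exact ⟨_, (dot_eq hxZ0 l).trans (chkE_sound eZ0 hl).choose_spec.1, qd_of hl (chkE_sound eZ0 hl).choose_spec.2⟩
  · exact ⟨_, (dot_eq hxZ1 l).trans (chkE_sound eZ1 hl).choose_spec.1, qd_of hl (chkE_sound eZ1 hl).choose_spec.2⟩
  · exact ⟨_, (dot_eq hxZ2 l).trans (chkE_sound eZ2 hl).choose_spec.1, qd_of hl (chkE_sound eZ2 hl).choose_spec.2⟩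
  · exact ⟨_, (dot_eq hxZ3 l).trans (chkE_sound eZ3 hl).choose_spec.1, qd_of hl (chkE_sound eZ3 hl).choose_spec.2⟩
  · exact ⟨_, (dot_eq hxZ4 l).trans (chkE_sound eZ4 hl).choose_spec.1, qd_of hl (chkE_sound eZ4 hl).choose_spec.2⟩
  · exact ⟨_, (dot_eq hxZ5 l).trans (chkE_sound eZ5 hl).choose_spec.1, qd_of hl (chkE_sound eZ5 hl).choose_spec.2⟩
  · exact ⟨_, (dot_eq hxZ6 l).trans (chkE_sound eZ6 hl).choose_spec.1, qd_of hl (chkE_sound eZ6 hl).choose_spec.2⟩
  · exact ⟨_, (dot_eq hxZ7 l).trans (chkE_sound eZ7 hl).choose_spec.1, qd_of hl (chkE_sound eZ7 hl).choose_spec.2⟩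
  · exact ⟨_, (dot_eq hxZ8 l).trans (chkE_sound eZ8 hl).choose_spec.1, qd_of hl (chkE_sound eZ8 hl).choose_spec.2⟩
  · exact ⟨_, (dot_eq hxZ9 l).trans (chkE_sound eZ9 hl).choose_spec.1, qd_of hl (chkE_sound eZ9 hl).choose_spec.2⟩
  · exact ⟨_, (dot_eq hxZ10 l).trans (chkE_sound eZ10 hl).choose_spec.1, qd_of hl (chkE_sound eZ10 hl).choose_spec.2⟩
  · exact ⟨_, (dot_eq hxZ11 l).trans (chkE_sound eZ11 hl).choose_spec.1, qd_of hl (chkE_sound eZ11 hl).choose_spec.2⟩

end Cfsg.Agent.H264.TC.TwoChk
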